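import Groth.Agent.CubicPfaff.TPoints

/-!
# The first polar on the tangent plane of a cubic surface
-/

set_option autoImplicit false
set_option maxHeartbeats 1000000
set_option linter.unusedSectionVars false

universe u

open MvPolynomial Matrix
open CubicPfaff

namespace CubicPolarLib

variable {K : Type u} [Field K] [CharZero K] {F : MvPolynomial (Fin 4) K} (hF : F.IsHomogeneous 3)

theorem quad_split [IsAlgClosed K] (A B C₀ : K) : ∃ p q r s : K,
    ∀ x y : K, A * x ^ 2 + B * (x * y) + C₀ * y ^ 2 = (p * x + q * y) * (r * x + s * y) := by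
  by_cases hA : A = 0
  · exact ⟨0, 1, B, C₀, fun x y => by rw [hA]; ring⟩
  obtain ⟨r, hr⟩ := IsAlgClosed.exists_root (Polynomial.C A * Polynomial.X ^ 2 + Polynomial.C B * Polynomial.X + Polynomial.C C₀)
    (by rw [Polynomial.degree_quadratic hA]; decide)
  simp only [Polynomial.IsRoot, Polynomial.eval_add, Polynomial.eval_mul, Polynomial.eval_C, Polynomial.eval_pow,
    Polynomial.eval_X] at hr
  refine ⟨1, -r, A, A * r + B, fun x y => ?_⟩
  linear_combination (y ^ 2) * hr

include hF in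
theorem polar_locus [IsAlgClosed K] {a : Fin 4 → K} (ha0 : a ≠ 0) (hFa : eval a F = 0)
    (l : (Fin 4 → K) →ₗ[K] K) (hl : ∀ x, l x = polar F a x) (hl0 : l ≠ 0) (ha : ¬ IsT F a) :
    ∃ U₁ U₂ : Submodule K (Fin 4 → K), Module.finrank K U₁ = 2 ∧ Module.finrank K U₂ = 2 ∧ a ∈ U₁ ∧ a ∈ U₂ ∧
      U₁ ≤ LinearMap.ker l ∧ U₂ ≤ LinearMap.ker l ∧
      {x : Fin 4 → K | l x = 0 ∧ polar F x a = 0} = (U₁ : Set (Fin 4 → K)) ∪ (U₂ : Set (Fin 4 → K)) := by
  classical
  haveI : Infinite K := Infinite.of_injective (fun n : ℕ => (n : K)) Nat.cast_injective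
  obtain ⟨x₀, hx₀⟩ : ∃ x, l x ≠ 0 := by
    by_contra h; push Not at h; exact hl0 (LinearMap.ext h)
  let w := (l x₀)⁻¹ • x₀
  have hw : l w = 1 := by simp [w, hx₀]
  have hla : l a = 0 := by rw [hl, polar_self hF, aeval_k, hFa, mul_zero]
  have hker : Module.finrank K (LinearMap.ker l) = 3 := by
    have h1 := LinearMap.finrank_range_add_finrank_ker l
    rw [LinearMap.range_eq_top.2 (LinearMap.surjective hl0), finrank_top, Module.finrank_self, Module.finrank_fin_fun] at h1
    omega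
  have mkbasis : ∀ h₁ h₂ : Fin 4 → K, l h₁ = 0 → l h₂ = 0 → h₁ ∉ Submodule.span K (Set.range ![a]) →
      h₂ ∉ Submodule.span K (Set.range ![a, h₁]) →
      ∃ α β γ : (Fin 4 → K) →ₗ[K] K, (∀ x, proj l w x = α x • a + β x • h₁ + γ x • h₂) ∧
        (α a = 1 ∧ β a = 0 ∧ γ a = 0) ∧ (β h₁ = 1 ∧ γ h₁ = 0 ∧ β h₂ = 0 ∧ γ h₂ = 1) := by
    intro h₁ h₂ l1 l2 n1 n2
    have indA : LinearIndependent K (Fin.snoc (Fin.snoc (Fin.snoc (![a] : Fin 1 → Fin 4 → K) h₁) h₂) w : Fin 4 → Fin 4 → K) := by
      refine linearIndependent_finSnoc.2 ⟨linearIndependent_finSnoc.2 ⟨linearIndependent_finSnoc.2 ⟨?_, n1⟩, ?_⟩, ?_⟩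
      · exact linearIndependent_unique_iff.2 (by simpa using ha0)
      · intro hm
        refine n2 (Submodule.span_mono ?_ hm)
        rintro _ ⟨i, rfl⟩
        fin_cases i <;> simp [Fin.snoc]
      · intro hmem
        have hsub : Submodule.span K (Set.range (Fin.snoc (Fin.snoc (![a] : Fin 1 → Fin 4 → K) h₁) h₂ : Fin 3 → Fin 4 → K)) ≤ LinearMap.ker l := by
          rw [Submodule.span_le]
          rintro _ ⟨i, rfl⟩
          fin_cases i
          · exact hla
          · exact l1
          · exact l2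
        have := hsub hmem
        rw [LinearMap.mem_ker, hw] at this
        exact one_ne_zero this
    let bA : Module.Basis (Fin 4) K (Fin 4 → K) := basisOfLinearIndependentOfCardEqFinrank indA (by simp)
    have hb0 : bA 0 = a := by simp [bA, Fin.snoc]
    have hb1 : bA 1 = h₁ := by simp [bA, Fin.snoc]
    have hb2 : bA 2 = h₂ := by simp [bA, Fin.snoc]
    refine ⟨bA.coord 0, bA.coord 1, bA.coord 2, fun x => ?_, ?_, ?_⟩
    · have hx := bA.sum_repr x
      rw [Fin.sum_univ_four] at hx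
      have hx' : bA.repr x 0 • a + bA.repr x 1 • h₁ + bA.repr x 2 • h₂ + bA.repr x 3 • w = x := by
        refine Eq.trans ?_ hx
        simp only [bA, coe_basisOfLinearIndependentOfCardEqFinrank]
        rfl
      have h3 : l x = bA.repr x 3 := by
        conv_lhs => rw [← hx']
        simp [map_add, hla, hw, l1, l2]
      rw [proj_apply, h3]
      show x - bA.repr x 3 • w = bA.repr x 0 • a + bA.repr x 1 • h₁ + bA.repr x 2 • h₂
      exact sub_eq_iff_eq_add.2 hx'.symm
    · refine ⟨?_, ?_, ?_⟩ <;> rw [← hb0] <;> simp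
    · refine ⟨?_, ?_, ?_, ?_⟩ <;> first | (rw [← hb1]; simp) | (rw [← hb2]; simp)
  have hp : ∀ x : Fin 4 → K, l x = 0 → proj l w x = x := fun x hx => by simp [proj_apply, hx]
  have hshift : ∀ (y : Fin 4 → K) (t : K), l y = 0 →
      eval (t • a + y) F = eval y F + t * polar F y a ∧ polar F (t • a + y) a = polar F y a := by
    intro y t hy
    have h1 := taylor hF y a t
    have h2 := polar_shift hF y a t
    rw [aeval_k, aeval_k, aeval_k, ← hl, hy, hFa] at h1
    rw [← hl, hy, aeval_k, hFa] at h2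
    rw [show t • a + y = fun m => y m + t * a m from funext fun m => by simp; ring]
    exact ⟨by linear_combination h1, by linear_combination h2⟩
  -- congruence of `F` with a polynomial in the coordinates of the tangent plane
  have toT : ∀ L₁ L₂ L₃ : MvPolynomial (Fin 4) K, L₁.IsHomogeneous 1 → L₂.IsHomogeneous 1 → L₃.IsHomogeneous 1 →
      (∀ x, eval (proj l w x) F = eval x (L₁ * L₂ * L₃)) → IsT F a := by
    intro L₁ L₂ L₃ e1 e2 e3 he
    refine ⟨L₁, L₂, L₃, e1, e2, e3, ?_⟩
    have e : L₁ * L₂ * L₃ = subst (LinearMap.toMatrix' (proj l w)) F :=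
      MvPolynomial.funext fun x => by rw [eval_subst_toMatrix, he]
    have hlf : (∑ i : Fin 4, C (eval a (pderiv i F)) * X i) = lform l :=
      MvPolynomial.funext fun x => by rw [← polar_eq_sum, eval_lform, hl]
    rw [e, hlf]
    have h1 : (Ideal.Quotient.mkₐ K (Ideal.span {lform l})).comp (subst (LinearMap.toMatrix' (proj l w))) =
        Ideal.Quotient.mkₐ K (Ideal.span {lform l}) := by
      refine MvPolynomial.algHom_ext fun i => ?_
      refine Ideal.Quotient.eq.2 (Ideal.mem_span_singleton'.2 ⟨-C (w i), ?_⟩)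
      refine MvPolynomial.funext fun x => ?_
      rw [map_mul, map_neg, eval_C, eval_lform, map_sub]
      show -w i * l x = eval x (subst (LinearMap.toMatrix' (proj l w)) (X i)) - eval x (X i)
      rw [eval_subst_toMatrix, eval_X, eval_X, proj_apply]
      simp
      ring
    exact Ideal.Quotient.eq.1 (AlgHom.congr_fun h1 F).symm
  obtain ⟨g₁, g1, g1'⟩ := SetLike.not_le_iff_exists.1 (not_le_span ![a] (LinearMap.ker l) (by omega))
  obtain ⟨g₂, g2, g2'⟩ := SetLike.not_le_iff_exists.1 (not_le_span ![a, g₁] (LinearMap.ker l) (by omega))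
  have l1 : l g₁ = 0 := g1
  have l2 : l g₂ = 0 := g2
  obtain ⟨α, β, γ, hdec, ⟨hαa, hβa, hγa⟩, hβ1, hγ1, hβ2, hγ2⟩ := mkbasis g₁ g₂ l1 l2 g1' g2'
  obtain ⟨p, q, r, s, hpq⟩ := quad_split (polar F g₁ a)
    (polar F (fun m => g₁ m + g₂ m) a - polar F g₁ a - polar F g₂ a) (polar F g₂ a)
  have hval : ∀ x, l x = 0 → polar F x a = (p * β x + q * γ x) * (r * β x + s * γ x) := by
    intro x hx
    have hy : l (β x • g₁ + γ x • g₂) = 0 := by simp [l1, l2]
    have e : x = α x • a + (β x • g₁ + γ x • g₂) := by rw [← add_assoc, ← hdec, hp x hx]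
    conv_lhs => rw [e, (hshift _ _ hy).2, polar_pair hF]
    rw [← hpq]
    ring
  have hne : ¬ (p = 0 ∧ q = 0) ∧ ¬ (r = 0 ∧ s = 0) := by
    by_contra hcon
    have hzero : ∀ x y : K, (p * x + q * y) * (r * x + s * y) = 0 := fun x y => by
      rcases not_and_or.1 hcon with h | h <;> obtain ⟨h1, h2⟩ := not_not.1 h <;> rw [h1, h2] <;> ring
    obtain ⟨L₁, L₂, L₃, e1, e2, e3, he⟩ := cubic_factor (eval g₁ F) (polar F g₁ g₂) (polar F g₂ g₁) (eval g₂ F)
      _ _ (isHomogeneous_lform β) (isHomogeneous_lform γ)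
    refine ha (toT L₁ L₂ L₃ e1 e2 e3 fun x => ?_)
    have hy : l (β x • g₁ + γ x • g₂) = 0 := by simp [l1, l2]
    have hpol : polar F (β x • g₁ + γ x • g₂) a = 0 := by
      rw [polar_pair hF]
      refine Eq.trans ?_ ((hpq (β x) (γ x)).trans (hzero _ _))
      ring
    rw [← he, hdec, add_assoc, (hshift _ _ hy).1, hpol, eval_pair hF]
    simp [eval_lform]
  have hline : ∀ p' q' : K, ¬ (p' = 0 ∧ q' = 0) →
      Module.finrank K (LinearMap.ker l ⊓ LinearMap.ker (p' • β + q' • γ) : Submodule K (Fin 4 → K)) = 2 := by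
    intro p' q' h
    let f : LinearMap.ker l →ₗ[K] K := (p' • β + q' • γ).comp (Submodule.subtype _)
    have hf0 : f ≠ 0 := fun hf0 => h ⟨by simpa [f, hβ1, hγ1] using LinearMap.congr_fun hf0 ⟨g₁, g1⟩,
      by simpa [f, hβ2, hγ2] using LinearMap.congr_fun hf0 ⟨g₂, g2⟩⟩
    have h1 := LinearMap.finrank_range_add_finrank_ker f
    rw [LinearMap.range_eq_top.2 (LinearMap.surjective hf0), finrank_top, Module.finrank_self, hker] at h1
    have h2 : Submodule.map (Submodule.subtype (LinearMap.ker l)) (LinearMap.ker f) =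
        LinearMap.ker l ⊓ LinearMap.ker (p' • β + q' • γ) := by
      rw [LinearMap.ker_comp, Submodule.map_comap_subtype]
    rw [← h2, Submodule.finrank_map_subtype_eq]
    omega
  refine ⟨_, _, hline p q hne.1, hline r s hne.2, ⟨hla, by simp [hβa, hγa]⟩, ⟨hla, by simp [hβa, hγa]⟩, inf_le_left, inf_le_left, ?_⟩
  ext x
  simp only [Set.mem_setOf_eq, Set.mem_union, SetLike.mem_coe, Submodule.mem_inf, LinearMap.mem_ker, LinearMap.add_apply,
    LinearMap.smul_apply, smul_eq_mul]
  constructor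
  · rintro ⟨hx, hP⟩
    rw [hval x hx, mul_eq_zero] at hP
    exact hP.imp (fun h => ⟨hx, h⟩) fun h => ⟨hx, h⟩
  · rintro (⟨hx, h⟩ | ⟨hx, h⟩) <;> exact ⟨hx, by rw [hval x hx, h]; ring⟩

include hF in
theorem lines_le {a : Fin 4 → K} (U : Submodule K (Fin 4 → K)) (haU : a ∈ U) (hU : ∀ u ∈ U, eval u F = 0) :
    ∀ u ∈ U, polar F a u = 0 ∧ polar F u a = 0 := by
  intro u hu
  have key : ∀ t : K, t * polar F u a + t ^ 2 * polar F a u = 0 := by
    intro t
    have h := taylor hF u a t
    simp only [aeval_k] at h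
    rw [hU u hu, hU a haU, show (fun m => u m + t * a m) = u + t • a from rfl,
      hU _ (U.add_mem hu (U.smul_mem t haU))] at h
    linear_combination -h
  have h1 := key 1
  have h2 := key (-1)
  refine ⟨?_, ?_⟩
  · have : (2 : K) * polar F a u = 0 := by linear_combination h1 + h2
    simpa using this
  · have : (2 : K) * polar F u a = 0 := by linear_combination h1 - h2
    simpa using this

end CubicPolarLib
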